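import Groth.Agent.S7791
import Groth.Agent.SeesawGen.Affine
import Groth.Agent.SeesawGen.Locus
import Groth.Agent.AlgSpDec.Hens.Smooth
import Groth.Agent.H23.SeesawGlobal
import Mathlib.AlgebraicGeometry.AlgClosed.Basic

/-! Line bundles trivial on the generic fibre of a smooth proper scheme over a henselian discrete valuation ring. -/

set_option autoImplicit false
set_option linter.style.haveILetI false
set_option backward.isDefEq.respectTransparency false
set_option backward.isDefEq.respectTransparency.types false
set_option maxHeartbeats 1000000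

universe u

open CategoryTheory CategoryTheory.Limits AlgebraicGeometry TopologicalSpace

namespace Groth.Agent.PicSep

open Groth.Agent Groth.Agent.InvX Groth.Agent.H23 Groth.Agent.H23.TrivBasic

theorem isClopen_connectedComponent {T : Type*} [TopologicalSpace T] [NoetherianSpace T] (x : T) :
    IsClopen (connectedComponent x) := by
  refine ⟨isClosed_connectedComponent, isClosed_compl_iff.1 ?_⟩
  have hfin : {Z ∈ irreducibleComponents T | ¬ Z ⊆ connectedComponent x}.Finite :=
    NoetherianSpace.finite_irreducibleComponents.subset fun Z h => h.1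
  convert hfin.isClosed_biUnion (f := id) fun Z hZ => isClosed_of_mem_irreducibleComponents Z hZ.1
  ext z
  simp only [Set.mem_compl_iff, Set.mem_iUnion, Set.mem_setOf_eq, id_eq, exists_prop]
  constructor
  · intro hz
    exact ⟨irreducibleComponent z, ⟨irreducibleComponent_mem_irreducibleComponents z,
      fun h => hz (h mem_irreducibleComponent)⟩, mem_irreducibleComponent⟩
  · rintro ⟨Z, ⟨hZ, hne⟩, hzZ⟩ hz
    refine hne ((connectedComponent_eq hz).symm ▸ ?_)
    exact hZ.1.isConnected.isPreconnected.subset_connectedComponent hzZ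

/-- Frames on the pieces of a partition give a frame. -/
theorem triv_of_partition {X : Scheme.{u}} {L : X.Modules} {ι : Type u} (C : ι → X.Opens)
    (hcov : ∀ p, ∃ i, p ∈ C i) (hdisj : ∀ i j, i ≠ j → C i ⊓ C j = ⊥) (h : ∀ i, ∃ e : Γ(L, C i), IsFrame e) :
    Triv L := by
  choose e he using h
  obtain ⟨s, hs, -⟩ := AModX.existsUnique_glue (M := L) (V := ⊤) C (fun _ => le_top) (fun p _ => hcov p) e
    (fun i j => by
      rcases eq_or_ne i j with rfl | hij
      · rfl
      · exact AModX.eq_of_locally _ _ fun p hp => absurd (hdisj i j hij ▸ hp) (by simp))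
  refine triv_of_frame (e := s) (isFrame_of_germwise fun p _ => ?_)
  obtain ⟨i, hi⟩ := hcov p
  exact ⟨C i, le_top, hi, by rw [hs i]; exact he i⟩

/-- A line bundle on a geometrically integral proper flat scheme over a local domain which is trivial over the
fraction field is trivial. -/
theorem triv_of_geomIntegral {W : Type u} [CommRing W] [IsDomain W] [IsLocalRing W] {Y : Scheme.{u}}
    (π : Y ⟶ Spec (CommRingCat.of W)) [IsProper π] [Flat π] [LocallyOfFinitePresentation π] [GeometricallyIntegral π]
    {L : Y.Modules} (hL : PicF.IsInvertible L)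
    (h : Triv ((Scheme.Modules.pullback (pullback.fst π
      (Spec.map (CommRingCat.ofHom (algebraMap W (FractionRing W)))))).obj L)) : Triv L := by
  letI : Y.Over (Spec (CommRingCat.of W)) := ⟨π⟩
  haveI : IsProper (Y ↘ Spec (CommRingCat.of W)) := ‹IsProper π›
  haveI : Flat (Y ↘ Spec (CommRingCat.of W)) := ‹Flat π›
  haveI : LocallyOfFinitePresentation (Y ↘ Spec (CommRingCat.of W)) := ‹LocallyOfFinitePresentation π›
  haveI : GeometricallyIntegral (Y ↘ Spec (CommRingCat.of W)) := ‹GeometricallyIntegral π›
  obtain ⟨I, hI, hkill⟩ := SeesawGen.exists_locus (A := W) (X := Y) (L := L) hL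
  let K := FractionRing W
  let v : Spec (CommRingCat.of K) ⟶ Spec (CommRingCat.of W) := Spec.map (CommRingCat.ofHom (algebraMap W K))
  have hv : SeesawSub.RelTriv π L v := fun t => ⟨⊤, trivial,
    SeesawGlobal.triv_pullback_of_factor (⊤ : Scheme.Opens (Spec (CommRingCat.of K))).ι rfl h⟩
  have hI0 : I = ⊥ := by
    refine (Submodule.eq_bot_iff I).2 fun a ha => ?_
    have h0 := hkill _ v hv a ha
    have hnat : v.appTop ((Scheme.ΓSpecIso (CommRingCat.of W)).inv a) =
        (Scheme.ΓSpecIso (CommRingCat.of K)).inv (algebraMap W K a) := by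
      have := congr(($(Scheme.ΓSpecIso_inv_naturality (CommRingCat.ofHom (algebraMap W K)))).hom a)
      exact this.symm
    rw [hnat] at h0
    have h1 : algebraMap W K a = 0 :=
      (ConcreteCategory.bijective_of_isIso (Scheme.ΓSpecIso (CommRingCat.of K)).inv).1 (h0.trans (map_zero _).symm)
    exact (map_eq_zero_iff _ (IsFractionRing.injective W K)).1 h1
  subst hI0
  haveI : IsIso (Seesaw.specAlg W (W ⧸ (⊥ : Ideal W))) := by
    show IsIso (Spec.map (CommRingCat.ofHom (algebraMap W (W ⧸ (⊥ : Ideal W)))))
    haveI : IsIso (CommRingCat.ofHom (algebraMap W (W ⧸ (⊥ : Ideal W)))) :=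
      (ConcreteCategory.isIso_iff_bijective _).2
        ⟨(RingHom.injective_iff_ker_eq_bot _).2 Ideal.mk_ker, Ideal.Quotient.mk_surjective⟩
    infer_instance
  have h1 : SeesawSub.RelTriv π L (𝟙 (Spec (CommRingCat.of W))) := by
    rw [← IsIso.inv_hom_id (Seesaw.specAlg W (W ⧸ (⊥ : Ideal W)))]
    exact hI.comp _
  obtain ⟨V, hV, hT⟩ := h1 (IsLocalRing.closedPoint W)
  obtain rfl : V = ⊤ := Opens.ext (Set.eq_univ_of_forall fun t =>
    (IsLocalRing.specializes_closedPoint t).mem_open V.2 hV)
  haveI : IsIso (⊤ : (Spec (CommRingCat.of W)).Opens).ι := inferInstanceAs (IsIso (Spec (CommRingCat.of W)).topIso.hom)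
  haveI : IsIso (pullback.fst π ((⊤ : (Spec (CommRingCat.of W)).Opens).ι ≫ 𝟙 _)) := inferInstance
  exact triv_of_isIso _ hT

/-- A line bundle trivial on the generic fibre is trivial. -/
theorem triv_of_triv_generic {W : Type u} [CommRing W] [IsDomain W] [IsNoetherianRing W] [HenselianLocalRing W]
    [IsAlgClosed (IsLocalRing.ResidueField W)] {Y : Scheme.{u}} (π : Y ⟶ Spec (CommRingCat.of W)) [IsProper π]
    [Smooth π] {L : Y.Modules} (hL : PicF.IsInvertible L)
    (h : Triv ((Scheme.Modules.pullback (pullback.fst π
      (Spec.map (CommRingCat.ofHom (algebraMap W (FractionRing W)))))).obj L)) : Triv L := by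
  haveI : IsLocallyNoetherian Y := LocallyOfFiniteType.isLocallyNoetherian π
  haveI : CompactSpace Y := QuasiCompact.compactSpace_of_compactSpace π
  haveI : IsNoetherian Y := {}
  let C : _root_.ConnectedComponents Y → Y.Opens := fun c =>
    ⟨_root_.ConnectedComponents.mk ⁻¹' {c}, by
      obtain ⟨x, rfl⟩ := _root_.ConnectedComponents.surjective_coe c
      rw [connectedComponents_preimage_singleton]
      exact (isClopen_connectedComponent x).2⟩
  refine triv_of_partition C (fun p => ⟨_root_.ConnectedComponents.mk p, rfl⟩)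
    (fun i j hij => Opens.ext (Set.eq_empty_of_forall_notMem fun p hp => hij (hp.1.symm.trans hp.2))) fun c => ?_
  obtain ⟨x, rfl⟩ := _root_.ConnectedComponents.surjective_coe c
  let U := C (_root_.ConnectedComponents.mk x)
  have hU : (U : Set Y) = connectedComponent x := connectedComponents_preimage_singleton
  let g := U.ι ≫ π
  haveI : IsClosedImmersion U.ι := .of_isPreimmersion _ (by
    rw [Scheme.Opens.range_ι, hU]; exact isClosed_connectedComponent)
  haveI : IsProper g := inferInstance
  haveI : Smooth g := inferInstance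
  haveI : ConnectedSpace U.toScheme := by
    have hc : _root_.IsConnected (U : Set Y) := hU ▸ isConnected_connectedComponent
    exact isConnected_iff_connectedSpace.1 hc
  haveI : ConnectedSpace (Spec (CommRingCat.of W)) := inferInstanceAs (ConnectedSpace (PrimeSpectrum W))
  have hsurj : IsLocalRing.closedPoint W ∈ Set.range g := by
    have hx : x ∈ U := by show x ∈ (U : Set Y); rw [hU]; exact mem_connectedComponent
    exact ((IsLocalRing.specializes_closedPoint (g ⟨x, hx⟩)).mem_closed (Scheme.Hom.isClosedMap g).isClosed_range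
      ⟨_, rfl⟩)
  let k := IsLocalRing.ResidueField W
  let i₀ : Spec (CommRingCat.of k) ⟶ Spec (CommRingCat.of W) := Spec.map (CommRingCat.ofHom (IsLocalRing.residue W))
  obtain ⟨y, hy⟩ := hsurj
  obtain ⟨z, -, -⟩ := Scheme.Pullback.exists_preimage_pullback (f := g) (g := i₀) y (IsLocalRing.closedPoint k) (by
    rw [hy]; exact (IsLocalRing.comap_closedPoint (IsLocalRing.residue W)).symm)
  haveI : Nonempty ↥(pullback g i₀) := ⟨z⟩
  haveI : CompactSpace ↥(pullback g i₀) := QuasiCompact.compactSpace_of_compactSpace (pullback.snd g i₀)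
  obtain ⟨z₀, -, hz₀⟩ := IsClosed.exists_closed_singleton (X := ↥(pullback g i₀))
    (S := (Set.univ : Set ↥(pullback g i₀))) isClosed_univ Set.univ_nonempty
  let v := pointOfClosedPoint (pullback.snd g i₀) z₀ hz₀
  have hv : (v ≫ pullback.fst g i₀) ≫ g = i₀ := by
    rw [Category.assoc, pullback.condition, ← Category.assoc, pointOfClosedPoint_comp, Category.id_comp]
  obtain ⟨σ, hσ, -⟩ := AlgSpDec.Hens.exists_smooth_section_local (IsLocalRing.maximalIdeal W)
    (IsLocalRing.maximalIdeal.isMaximal W).ne_top g (v ≫ pullback.fst g i₀) hv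
  haveI : GeometricallyIntegral g := S7791.result g σ hσ
  let v' : Spec (CommRingCat.of (FractionRing W)) ⟶ Spec (CommRingCat.of W) :=
    Spec.map (CommRingCat.ofHom (algebraMap W (FractionRing W)))
  have hres : Triv ((Scheme.Modules.pullback U.ι).obj L) := by
    refine triv_of_geomIntegral g (PicClLib.isInvertible_pullback U.ι hL) ((triv_comp_iff _ _).2 ?_)
    exact SeesawGlobal.triv_of_factor
      (pullback.lift (pullback.fst g v' ≫ U.ι) (pullback.snd g v') (by rw [Category.assoc]; exact pullback.condition))
      (pullback.lift_fst _ _ _) h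
  obtain ⟨s, hs⟩ := SeesawGlobal.exists_frame_of_triv U.ι hres
  exact ⟨AModX.res L (le_of_eq (Scheme.Opens.opensRange_ι U).symm) s, hs.res _⟩

end Groth.Agent.PicSep
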