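import Groth.Agent.RelPicGrp.Basic
import Groth.Agent.RelPicLft.Main
import Groth.Agent.UnivOpen.Criterion
import Groth.Agent.SteinX.DvrConn
import Groth.Agent.PicSep.Inj
import Groth.Agent.LineDesc.RelPic
import Groth.Agent.SeesawGen.Diag

/-! Points with values in discrete valuation rings of a scheme representing the relative Picard functor. -/

set_option autoImplicit false
set_option linter.style.haveILetI false
set_option backward.isDefEq.respectTransparency false
set_option backward.isDefEq.respectTransparency.types false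
set_option maxHeartbeats 1000000

universe u

open CategoryTheory CategoryTheory.Limits AlgebraicGeometry TopologicalSpace
open Groth.Agent.H23

namespace Groth.Agent.PicSep

open Groth.Agent
open scoped Groth.Agent.H23.PicMul

/-- A complete discrete valuation ring with algebraically closed residue field dominating a given one. -/
theorem exists_dvr_alg_closed (R : Type u) [CommRing R] [IsDomain R] [IsDiscreteValuationRing R] :
    ∃ (B : Type u) (_ : CommRing B) (_ : IsDomain B) (_ : IsDiscreteValuationRing B) (_ : HenselianLocalRing B)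
      (_ : IsAlgClosed (IsLocalRing.ResidueField B)) (φ : R →+* B), Function.Injective φ ∧ IsLocalHom φ := by
  let L := AlgebraicClosure (IsLocalRing.ResidueField R)
  obtain ⟨B₀, _, _, hN, hL, hH, hF, e, -⟩ := Groth.Agent.S2363.result (A := R) L
  haveI := hN
  haveI := hL
  haveI := hH
  haveI := hF
  haveI := FlatLoc6.isNoetherianRing_cpl B₀
  haveI := FlatLoc6.faithfullyFlat_cpl B₀
  haveI hcpl : IsAdicComplete (IsLocalRing.maximalIdeal (EGA4.Cpl B₀)) (EGA4.Cpl B₀) := CplFib6.isAdicComplete_cpl B₀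
  haveI : HenselianRing (EGA4.Cpl B₀) (IsLocalRing.maximalIdeal (EGA4.Cpl B₀)) := inferInstance
  haveI : HenselianLocalRing (EGA4.Cpl B₀) := Hensel.henselianLocalRing_of_henselianRing _
  have hm₀ : (IsLocalRing.maximalIdeal R).map (algebraMap R B₀) = IsLocalRing.maximalIdeal B₀ :=
    IsLocalRing.eq_maximalIdeal (Ideal.Quotient.maximal_of_isField _ (e.toMulEquiv.isField (Field.toIsField L)))
  haveI : Module.Flat R (EGA4.Cpl B₀) := Module.Flat.trans R B₀ (EGA4.Cpl B₀)
  have hm : (IsLocalRing.maximalIdeal R).map (algebraMap R (EGA4.Cpl B₀)) = IsLocalRing.maximalIdeal (EGA4.Cpl B₀) := by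
    rw [IsScalarTower.algebraMap_eq R B₀ (EGA4.Cpl B₀), ← Ideal.map_map, hm₀]
    exact (AdicCompletion.maximalIdeal_eq_map).symm
  haveI := SteinX.isDomain_of_flat_unramified hm
  haveI hloc : IsLocalHom (algebraMap R (EGA4.Cpl B₀)) :=
    ((IsLocalRing.local_hom_TFAE _).out 0 2).mpr hm.le
  haveI : Module.FaithfullyFlat R (EGA4.Cpl B₀) := Module.FaithfullyFlat.of_flat_of_isLocalHom
  have hinj : Function.Injective (algebraMap R (EGA4.Cpl B₀)) := FaithfulSMul.algebraMap_injective R (EGA4.Cpl B₀)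
  obtain ⟨ϖ, hϖ⟩ := IsDiscreteValuationRing.exists_irreducible R
  have hspan : IsLocalRing.maximalIdeal (EGA4.Cpl B₀) = Ideal.span {algebraMap R (EGA4.Cpl B₀) ϖ} := by
    rw [← hm, hϖ.maximalIdeal_eq, Ideal.map_span, Set.image_singleton]
  have hnf : ¬ IsField (EGA4.Cpl B₀) := fun h => by
    have := IsLocalRing.isField_iff_maximalIdeal_eq.1 h
    rw [hspan, Ideal.span_singleton_eq_bot, map_eq_zero_iff _ hinj] at this
    exact hϖ.ne_zero this
  haveI : IsDiscreteValuationRing (EGA4.Cpl B₀) :=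
    ((IsDiscreteValuationRing.TFAE (EGA4.Cpl B₀) hnf).out 0 4).mpr (⟨⟨_, hspan⟩⟩ : (IsLocalRing.maximalIdeal (EGA4.Cpl B₀)).IsPrincipal)
  let E : (EGA4.Cpl B₀ ⧸ IsLocalRing.maximalIdeal (EGA4.Cpl B₀)) →+* L :=
    Ideal.Quotient.lift _ ((e.toRingHom.comp (Ideal.quotEquivOfEq hm₀.symm).toRingHom).comp
      (AdicCompletion.evalOneₐ (IsLocalRing.maximalIdeal B₀)).toRingHom) fun x hx => by
      rw [hspan, Ideal.mem_span_singleton] at hx
      obtain ⟨y, rfl⟩ := hx
      rw [map_mul, IsScalarTower.algebraMap_apply R B₀ (EGA4.Cpl B₀)]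
      refine mul_eq_zero_of_left ?_ _
      show e (Ideal.quotEquivOfEq hm₀.symm (AdicCompletion.evalOneₐ _ (algebraMap B₀ _ (algebraMap R B₀ ϖ)))) = 0
      rw [AlgHom.commutes]
      refine (congrArg e ?_).trans (map_zero e)
      refine (congrArg _ (Ideal.Quotient.eq_zero_iff_mem.2 ?_)).trans (map_zero _)
      rw [← hm₀]
      exact Ideal.mem_map_of_mem _ (hϖ.maximalIdeal_eq ▸ Ideal.mem_span_singleton_self ϖ)
  have hbij : Function.Bijective E := by
    refine ⟨RingHom.injective (show IsLocalRing.ResidueField (EGA4.Cpl B₀) →+* L from E), ?_⟩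
    exact Ideal.Quotient.lift_surjective_of_surjective _ _
      ((e.surjective.comp (Ideal.quotEquivOfEq hm₀.symm).surjective).comp (AdicCompletion.evalOneₐ_surjective _))
  haveI : IsAlgClosed (IsLocalRing.ResidueField (EGA4.Cpl B₀)) :=
    IsAlgClosed.of_ringEquiv L _ (RingEquiv.ofBijective E hbij).symm
  exact ⟨EGA4.Cpl B₀, inferInstance, inferInstance, inferInstance, inferInstance, inferInstance,
    algebraMap R (EGA4.Cpl B₀), hinj, hloc⟩

/-- An injection of domains extends to the fields of fractions. -/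
theorem exists_fracMap {R B : Type u} [CommRing R] [IsDomain R] [CommRing B] [IsDomain B] (L : Type u) [Field L]
    [Algebra R L] [IsFractionRing R L] (KB : Type u) [Field KB] [Algebra B KB] [IsFractionRing B KB]
    (ψ : R →+* B) (hψ : Function.Injective ψ) :
    ∃ ρ : L →+* KB, ∀ a, ρ (algebraMap R L a) = algebraMap B KB (ψ a) := by
  have hg : Function.Injective ((algebraMap B KB).comp ψ) := fun x y h => hψ (IsFractionRing.injective B KB h)
  exact ⟨IsFractionRing.lift hg, fun a => IsFractionRing.lift_algebraMap hg a⟩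

variable {X S : Scheme.{u}} {f : X ⟶ S} {P : Over S} {φ : ∀ T : Over S, PicF.Cl (PicF.XT f T) → (T ⟶ P)}

/-- The base change along a ring homomorphism. -/
noncomputable def ext {A B : Type u} [CommRing A] [CommRing B] (ψ : A →+* B) (t : Spec (CommRingCat.of A) ⟶ S) :
    Over.mk (Spec.map (CommRingCat.ofHom ψ) ≫ t) ⟶ Over.mk t :=
  Over.homMk (Spec.map (CommRingCat.ofHom ψ)) rfl

variable (hP : PicRel.IsRelPic f P φ)
include hP

/-- A class mapping to the unit over a field dies over a finite extension. -/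
theorem exists_finite_triv {K : Type u} [Field K] (t : Spec (CommRingCat.of K) ⟶ S)
    {c : PicF.Cl (PicF.XT f (Over.mk t))} (hc : PicF.IsInvertibleCl c) (h : φ _ c = RelPicGrp.one hP _) :
    ∃ (L : Type u) (_ : Field L) (_ : Algebra K L), Module.Finite K L ∧
      PicF.pullCl (PicF.XTmap f (ext (algebraMap K L) t)) c = 1 := by
  obtain ⟨ι, U, hU, he⟩ := hP.locallyInjective _ c 1 hc (RelPicGrp.isInvertibleCl_one _) h
  obtain ⟨i, y₀, -⟩ := hU (IsLocalRing.closedPoint K)
  haveI : Etale (U i).hom := (U i).prop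
  haveI : Nonempty (U i).left := ⟨y₀⟩
  haveI : JacobsonSpace ↥((Functor.fromPUnit (Over.mk t).left).obj (U i).right) := inferInstanceAs (JacobsonSpace (PrimeSpectrum K))
  haveI : JacobsonSpace (U i).left :=
    LocallyOfFiniteType.jacobsonSpace (X := (U i).left) (Y := Spec (CommRingCat.of K)) (U i).hom
  obtain ⟨y, -, hy⟩ := (nonempty_inter_closedPoints (Z := (Set.univ : Set (U i).left)) Set.univ_nonempty
    isClosed_univ.isLocallyClosed)
  let m : CommRingCat.of K ⟶ (U i).left.residueField y := Spec.preimage ((U i).left.fromSpecResidueField y ≫ (U i).hom)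
  have hm : Spec.map m = (U i).left.fromSpecResidueField y ≫ (U i).hom := Spec.map_preimage _
  have hfin : m.hom.Finite := by
    have : IsFinite ((U i).left.fromSpecResidueField y ≫ (U i).hom) := by
      rw [mem_closedPoints_iff, isClosed_singleton_iff_isClosedImmersion] at hy
      rw [isFinite_iff_locallyOfFiniteType_of_jacobsonSpace]
      infer_instance
    rw [← IsFinite.SpecMap_iff, hm]
    exact this
  let L := (U i).left.residueField y
  letI : Algebra K L := m.hom.toAlgebra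
  refine ⟨L, inferInstance, inferInstance, hfin, ?_⟩
  let g : Over.mk (Spec.map (CommRingCat.ofHom (algebraMap K L)) ≫ t) ⟶ PicRel.ovr (Over.mk t) (U i) :=
    Over.homMk ((U i).left.fromSpecResidueField y) (by
      show (U i).left.fromSpecResidueField y ≫ (U i).hom ≫ t = Spec.map m ≫ t
      rw [hm, Category.assoc])
  have hg : ext (algebraMap K L) t = g ≫ PicRel.ovrHom (Over.mk t) (U i) :=
    Over.OverMorphism.ext (show Spec.map m = _ from hm)
  rw [hg, ← LineDesc.Rig.pullCl_XTmap_comp, he i, LineDesc.Rig.pullCl_XTmap_comp, H23.PicMul.pullCl_one]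

/-- A class on a discrete valuation ring near a point mapping to the unit on the generic point. -/
theorem exists_dvr_class {A : Type u} [CommRing A] [IsDomain A] [IsDiscreteValuationRing A]
    (t : Spec (CommRingCat.of A) ⟶ S) (g : Over.mk t ⟶ P) :
    ∃ (B : Type u) (_ : CommRing B) (_ : IsDomain B) (_ : IsDiscreteValuationRing B) (ψ : A →+* B)
      (c : PicF.Cl (PicF.XT f (Over.mk (Spec.map (CommRingCat.ofHom ψ) ≫ t)))), Function.Injective ψ ∧ IsLocalHom ψ ∧
        PicF.IsInvertibleCl c ∧ φ _ c = ext ψ t ≫ g := by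
  obtain ⟨ι, U, hU, hc⟩ := hP.locallySurjective _ g
  obtain ⟨i, v, hv⟩ := hU (IsLocalRing.closedPoint A)
  obtain ⟨c, hci, hcφ⟩ := hc i
  haveI : Etale (U i).hom := (U i).prop
  haveI : IsNoetherianRing A := inferInstance
  haveI : IsLocallyNoetherian (U i).left :=
    LocallyOfFiniteType.isLocallyNoetherian (X := (U i).left) (Y := Spec (CommRingCat.of A)) (U i).hom
  let η : Spec (CommRingCat.of A) := (⟨⊥, Ideal.isPrime_bot⟩ : PrimeSpectrum A)
  have hη : η ⤳ (U i).hom v :=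
    (PrimeSpectrum.le_iff_specializes (⟨⊥, Ideal.isPrime_bot⟩ : PrimeSpectrum A) ((U i).hom v : PrimeSpectrum A)).1 bot_le
  obtain ⟨w, hw, hwη⟩ := Flat.generalizingMap (U i).hom hη
  have hne : η ≠ IsLocalRing.closedPoint A := fun h =>
    IsDiscreteValuationRing.not_a_field A (congrArg PrimeSpectrum.asIdeal h).symm
  obtain ⟨B, _, _, _, τ, hτc, hτg⟩ := UnivOpen.exists_dvr_lift (Y := (U i).left) hw (fun h => hne (by
    rw [← hwη, ← h, hv]))
  obtain ⟨ψ, hψ⟩ := Spec.map_surjective (τ ≫ (U i).hom)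
  let g' : Over.mk (Spec.map (CommRingCat.ofHom ψ.hom) ≫ t) ⟶ PicRel.ovr (Over.mk t) (U i) :=
    Over.homMk τ (by show τ ≫ (U i).hom ≫ t = Spec.map ψ ≫ t; rw [hψ, Category.assoc])
  have hg' : ext ψ.hom t = g' ≫ PicRel.ovrHom (Over.mk t) (U i) :=
    Over.OverMorphism.ext (show Spec.map ψ = _ from hψ)
  have hpt : ∀ z : Spec (CommRingCat.of B), Spec.map ψ z = (U i).hom (τ z) := fun z => by
    rw [hψ]; rfl
  refine ⟨B, inferInstance, inferInstance, inferInstance, ψ.hom, PicF.pullCl (PicF.XTmap f g') c, ?_, ?_,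
    PicClLib.isInvertibleCl_pullCl _ hci, ?_⟩
  · let ηB : PrimeSpectrum B := ⟨⊥, Ideal.isPrime_bot⟩
    have hgen := (hpt ηB).trans ((congrArg _ (hτg ηB fun h =>
      IsDiscreteValuationRing.not_a_field B (congrArg PrimeSpectrum.asIdeal h).symm)).trans hwη)
    have hker := congrArg PrimeSpectrum.asIdeal hgen
    rw [RingHom.injective_iff_ker_eq_bot]
    exact hker
  · refine ((IsLocalRing.local_hom_TFAE ψ.hom).out 0 4).mpr ?_
    exact congrArg PrimeSpectrum.asIdeal ((hpt (IsLocalRing.closedPoint B)).trans ((congrArg _ hτc).trans hv))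
  · rw [hP.natural _ _ g' _ hci, hcφ, hg', Category.assoc]

omit hP in
/-- A class trivial over a finite extension of the fraction field dies after a local extension. -/
theorem exists_local_triv [IsProper f] [Smooth f] {A₁ : Type u} [CommRing A₁] [IsDomain A₁]
    [IsDiscreteValuationRing A₁] {K₁ : Type u} [Field K₁] [Algebra A₁ K₁] [IsFractionRing A₁ K₁]
    {L : Type u} [Field L] [Algebra K₁ L] [Module.Finite K₁ L] (t₁ : Spec (CommRingCat.of A₁) ⟶ S)
    {c : PicF.Cl (PicF.XT f (Over.mk t₁))} (hci : PicF.IsInvertibleCl c)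
    (htriv : PicF.pullCl (PicF.XTmap f (ext (algebraMap K₁ L) (Spec.map (CommRingCat.ofHom (algebraMap A₁ K₁)) ≫ t₁) ≫
      ext (algebraMap A₁ K₁) t₁)) c = 1) :
    ∃ (B : Type u) (_ : CommRing B) (_ : IsLocalRing B) (ψ : A₁ →+* B), IsLocalHom ψ ∧
      PicF.pullCl (PicF.XTmap f (ext ψ t₁)) c = 1 := by
  letI : Algebra A₁ L := ((algebraMap K₁ L).comp (algebraMap A₁ K₁)).toAlgebra
  haveI : IsScalarTower A₁ K₁ L := IsScalarTower.of_algebraMap_eq fun _ => rfl
  have hfg : (⊤ : IntermediateField K₁ L).FG := IntermediateField.fg_of_noetherian _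
  obtain ⟨R, hR, hmem, hdom⟩ := Groth.Agent.S4433.result A₁ (IsDiscreteValuationRing.not_isField A₁) K₁ L hfg
  haveI := hR
  let ψ₂ : A₁ →+* R := (algebraMap A₁ L).codRestrict R.toSubring hmem
  haveI hloc₂ : IsLocalHom ψ₂ := ⟨fun a ha => by
    by_contra hn
    have := hdom a hn
    have h1 : R.valuation ((ψ₂ a : R) : L) = 1 := (R.valuation_eq_one_iff _).1 ha
    exact (ne_of_lt this) h1⟩
  obtain ⟨B, _, _, _, _, _, ψ₃, hψ₃, hloc₃⟩ := exists_dvr_alg_closed R
  let ψ : A₁ →+* B := ψ₃.comp ψ₂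
  let tB := Spec.map (CommRingCat.ofHom ψ) ≫ t₁
  let KB := FractionRing B
  obtain ⟨ρ, hρ'⟩ := exists_fracMap L KB ψ₃ hψ₃
  have hρ : ρ.comp ((algebraMap K₁ L).comp (algebraMap A₁ K₁)) = (algebraMap B KB).comp ψ :=
    RingHom.ext fun a => hρ' (ψ₂ a)
  let r : Over.mk (Spec.map (CommRingCat.ofHom (algebraMap B KB)) ≫ tB) ⟶
      Over.mk (Spec.map (CommRingCat.ofHom (algebraMap K₁ L)) ≫ Spec.map (CommRingCat.ofHom (algebraMap A₁ K₁)) ≫ t₁) :=
    Over.homMk (Spec.map (CommRingCat.ofHom ρ)) (by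
      show Spec.map (CommRingCat.ofHom ρ) ≫ Spec.map _ ≫ Spec.map _ ≫ t₁ = Spec.map _ ≫ Spec.map _ ≫ t₁
      rw [← Spec.map_comp_assoc, ← Spec.map_comp_assoc, ← Spec.map_comp_assoc, ← CommRingCat.ofHom_comp,
        ← CommRingCat.ofHom_comp, ← CommRingCat.ofHom_comp, RingHom.comp_assoc, hρ])
  have hr : ext (algebraMap B KB) tB ≫ ext ψ t₁ =
      r ≫ ext (algebraMap K₁ L) _ ≫ ext (algebraMap A₁ K₁) t₁ := Over.OverMorphism.ext (by
    show Spec.map _ ≫ Spec.map _ = Spec.map (CommRingCat.ofHom ρ) ≫ Spec.map _ ≫ Spec.map _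
    rw [← Spec.map_comp, ← Spec.map_comp, ← Spec.map_comp, ← CommRingCat.ofHom_comp, ← CommRingCat.ofHom_comp,
      ← CommRingCat.ofHom_comp, hρ])
  have h2 : PicF.pullCl (PicF.XTmap f (ext (algebraMap B KB) tB)) (PicF.pullCl (PicF.XTmap f (ext ψ t₁)) c) = 1 := by
    rw [LineDesc.Rig.pullCl_XTmap_comp, hr, ← LineDesc.Rig.pullCl_XTmap_comp, htriv, H23.PicMul.pullCl_one]
  obtain ⟨M, hM, hMi⟩ := PicClLib.isInvertibleCl_pullCl (PicF.XTmap f (ext ψ t₁)) hci
  rw [← hM] at h2
  have h3 : TrivBasic.Triv M := triv_of_triv_generic (pullback.snd f tB) hMi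
    ((SeesawGen.triv_pullback_fst_iff (ext (algebraMap B KB) tB) M).2 h2)
  refine ⟨B, inferInstance, inferInstance, ψ, ?_, hM ▸ (PicGrp.cl_eq_cl_iff _ _).2 h3⟩
  haveI := hloc₃
  exact RingHom.isLocalHom_comp _ _

/-- The point at the fraction field of a dominating valuation ring. -/
theorem class_generic {A : Type u} [CommRing A] [IsDomain A]
    {A₁ : Type u} [CommRing A₁] [IsDomain A₁] (t : Spec (CommRingCat.of A) ⟶ S) (g : Over.mk t ⟶ P)
    (hK : ext (algebraMap A (FractionRing A)) t ≫ g = RelPicGrp.one hP _)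
    {ψ₁ : A →+* A₁} (hψ₁ : Function.Injective ψ₁)
    {c : PicF.Cl (PicF.XT f (Over.mk (Spec.map (CommRingCat.ofHom ψ₁) ≫ t)))} (hci : PicF.IsInvertibleCl c)
    (hcφ : φ _ c = ext ψ₁ t ≫ g) :
    φ _ (PicF.pullCl (PicF.XTmap f (ext (algebraMap A₁ (FractionRing A₁)) (Spec.map (CommRingCat.ofHom ψ₁) ≫ t))) c) =
      RelPicGrp.one hP _ := by
  let K₁ := FractionRing A₁
  let t₁ := Spec.map (CommRingCat.ofHom ψ₁) ≫ t
  let j₁ := ext (algebraMap A₁ K₁) t₁
  obtain ⟨ρ, hρ'⟩ := exists_fracMap (FractionRing A) K₁ ψ₁ hψ₁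
  have hρ : ρ.comp (algebraMap A (FractionRing A)) = (algebraMap A₁ K₁).comp ψ₁ := RingHom.ext hρ'
  let r : Over.mk (Spec.map (CommRingCat.ofHom (algebraMap A₁ K₁)) ≫ t₁) ⟶
      Over.mk (Spec.map (CommRingCat.ofHom (algebraMap A (FractionRing A))) ≫ t) :=
    Over.homMk (Spec.map (CommRingCat.ofHom ρ)) (by
      show Spec.map (CommRingCat.ofHom ρ) ≫ Spec.map _ ≫ t = Spec.map _ ≫ Spec.map _ ≫ t
      rw [← Spec.map_comp_assoc, ← Spec.map_comp_assoc, ← CommRingCat.ofHom_comp, ← CommRingCat.ofHom_comp, hρ])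
  have hr : r ≫ ext (algebraMap A (FractionRing A)) t = j₁ ≫ ext ψ₁ t := Over.OverMorphism.ext (by
    show Spec.map (CommRingCat.ofHom ρ) ≫ Spec.map _ = Spec.map _ ≫ Spec.map _
    rw [← Spec.map_comp, ← Spec.map_comp, ← CommRingCat.ofHom_comp, ← CommRingCat.ofHom_comp, hρ])
  refine (hP.natural _ _ j₁ _ hci).trans ((congrArg (j₁ ≫ ·) hcφ).trans ?_)
  exact (Category.assoc j₁ (ext ψ₁ t) g).symm.trans ((congrArg (· ≫ g) hr.symm).trans
    ((Category.assoc r _ g).trans ((congrArg (r ≫ ·) hK).trans (RelPicGrp.comp_one hP r))))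

/-- A point given by a class which dies after an extension, in terms of morphisms. -/
theorem one_comp₃ {T T₁ T₂ T₃ : Over S} (g : T ⟶ P) (a : T₁ ⟶ T) (b : T₂ ⟶ T₁) (r : T₃ ⟶ T₂)
    {c : PicF.Cl (PicF.XT f T₁)} (hci : PicF.IsInvertibleCl c) (hcφ : φ T₁ c = a ≫ g)
    (hψ : PicF.pullCl (PicF.XTmap f b) c = 1) : (r ≫ b ≫ a) ≫ g = RelPicGrp.one hP T₃ := by
  have h := hP.natural T₁ T₂ b c hci
  rw [hψ, hcφ] at h
  rw [Category.assoc, Category.assoc, ← h]
  exact RelPicGrp.comp_one hP r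

omit hP in
/-- The change of base along a composite of morphisms. -/
theorem homMk_comp {X₀ X₁ X₂ : Scheme.{u}} (t : X₀ ⟶ S) (u : X₁ ⟶ X₀) (v : X₂ ⟶ X₁) (w : X₂ ⟶ X₀) (h : w = v ≫ u) :
    ∃ r : Over.mk (w ≫ t) ⟶ Over.mk (v ≫ u ≫ t), (Over.homMk w rfl : Over.mk (w ≫ t) ⟶ Over.mk t) =
      r ≫ (Over.homMk v rfl : Over.mk (v ≫ u ≫ t) ⟶ Over.mk (u ≫ t)) ≫ (Over.homMk u rfl : Over.mk (u ≫ t) ⟶ Over.mk t) := by
  subst h
  exact ⟨Over.homMk (𝟙 _) ((Category.id_comp _).trans (Category.assoc v u t).symm),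
    Over.OverMorphism.ext (Category.id_comp _).symm⟩

omit hP in
/-- The change of base along a composite. -/
theorem ext_comp {A A₁ B : Type u} [CommRing A] [CommRing A₁] [CommRing B] (t : Spec (CommRingCat.of A) ⟶ S)
    (ψ₁ : A →+* A₁) (ψ : A₁ →+* B) :
    ∃ r, ext (ψ.comp ψ₁) t = r ≫ ext ψ (Spec.map (CommRingCat.ofHom ψ₁) ≫ t) ≫ ext ψ₁ t :=
  homMk_comp t (Spec.map (CommRingCat.ofHom ψ₁)) (Spec.map (CommRingCat.ofHom ψ)) _
    (by rw [← Spec.map_comp, ← CommRingCat.ofHom_comp])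

/-- A point given by a class which dies after an extension. -/
theorem one_comp {A A₁ B : Type u} [CommRing A] [CommRing A₁] [CommRing B] (t : Spec (CommRingCat.of A) ⟶ S)
    (g : Over.mk t ⟶ P) (ψ₁ : A →+* A₁) (ψ : A₁ →+* B)
    {c : PicF.Cl (PicF.XT f (Over.mk (Spec.map (CommRingCat.ofHom ψ₁) ≫ t)))} (hci : PicF.IsInvertibleCl c)
    (hcφ : φ _ c = ext ψ₁ t ≫ g)
    (hψ : PicF.pullCl (PicF.XTmap f (ext ψ (Spec.map (CommRingCat.ofHom ψ₁) ≫ t))) c = 1) :
    ext (ψ.comp ψ₁) t ≫ g = RelPicGrp.one hP _ := by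
  obtain ⟨r, hr⟩ := ext_comp t ψ₁ ψ
  rw [hr]
  exact one_comp₃ hP g _ _ r hci hcφ hψ

/-- A valuation point which is the unit at the generic point is the unit after a local extension. -/
theorem exists_ext_one [IsProper f] [Smooth f] {A : Type u} [CommRing A] [IsDomain A] [IsDiscreteValuationRing A]
    (t : Spec (CommRingCat.of A) ⟶ S) (g : Over.mk t ⟶ P)
    (hK : ext (algebraMap A (FractionRing A)) t ≫ g = RelPicGrp.one hP _) :
    ∃ (B : Type u) (_ : CommRing B) (_ : IsLocalRing B) (ψ : A →+* B), IsLocalHom ψ ∧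
      ext ψ t ≫ g = RelPicGrp.one hP _ := by
  obtain ⟨A₁, _, _, _, ψ₁, c, hψ₁, hloc₁, hci, hcφ⟩ := exists_dvr_class hP t g
  obtain ⟨L, _, _, hfin, htriv⟩ := exists_finite_triv hP _ (PicClLib.isInvertibleCl_pullCl _ hci)
    (class_generic hP t g hK hψ₁ hci hcφ)
  rw [LineDesc.Rig.pullCl_XTmap_comp] at htriv
  haveI := hfin
  obtain ⟨B, _, _, ψ, hloc, hψ⟩ := exists_local_triv _ hci htriv
  exact ⟨B, inferInstance, inferInstance, ψ.comp ψ₁, @RingHom.isLocalHom_comp _ _ _ _ _ _ ψ ψ₁ hloc hloc₁,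
    one_comp hP t g ψ₁ ψ hci hcφ hψ⟩

end Groth.Agent.PicSep
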