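import Groth.Agent.PicSep.Unit
import Groth.Agent.InvUfdLib.Pushforward
import Groth.Agent.RegUFD.Basic
import Groth.Agent.FibIso.Dvr
import Groth.Agent.S9213

/-! Closed subschemes of finite type of a scheme representing the relative Picard functor are proper. -/

set_option autoImplicit false
set_option linter.style.haveILetI false
set_option backward.isDefEq.respectTransparency false
set_option backward.isDefEq.respectTransparency.types false
set_option maxHeartbeats 1000000

universe u

open CategoryTheory CategoryTheory.Limits AlgebraicGeometry TopologicalSpace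

namespace Groth.Agent.PicSep

open Groth.Agent

/-- A valuation ring dominating a valuation ring meets its field of fractions in it. -/
theorem mem_range_of_dominates {R K L : Type u} [CommRing R] [IsDomain R] [IsDiscreteValuationRing R] [Field K]
    [Algebra R K] [IsFractionRing R K] [Field L] [Algebra K L] [Algebra R L] [IsScalarTower R K L]
    (V : ValuationSubring L) (hdom : ∀ a ∈ IsLocalRing.maximalIdeal R, V.valuation (algebraMap R L a) < 1)
    (k : K) (hk : algebraMap K L k ∈ V) : k ∈ (algebraMap R K).range := by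
  rcases ValuationRing.isInteger_or_isInteger R k with h | ⟨a, ha⟩
  · exact h
  by_cases hu : IsUnit a
  · obtain ⟨v, rfl⟩ := hu
    refine ⟨↑v⁻¹, ?_⟩
    rw [← inv_inv k, ← ha, map_units_inv]
  · have h1 := hdom a hu
    rw [IsScalarTower.algebraMap_apply R K L, ha, map_inv₀, map_inv₀] at h1
    have h2 := (V.valuation_le_one_iff _).2 hk
    by_cases hk0 : k = 0
    · exact ⟨0, by rw [map_zero, hk0]⟩
    have hpos : V.valuation (algebraMap K L k) ≠ 0 := (map_ne_zero _).2 ((map_ne_zero _).2 hk0)
    exact absurd h1 (not_lt.2 (one_le_inv_iff₀.2 ⟨zero_lt_iff.2 hpos, h2⟩))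

/-- Morphisms out of a local domain agree if they agree after a dominant local extension. -/
theorem ext_of_local {R B : Type u} [CommRing R] [IsLocalRing R] [CommRing B] {S : Scheme.{u}}
    (ψ : R →+* B) (hψ : Function.Injective ψ) [IsLocalHom ψ] [IsLocalRing B]
    (a b : Spec (CommRingCat.of R) ⟶ S)
    (h : Spec.map (CommRingCat.ofHom ψ) ≫ a = Spec.map (CommRingCat.ofHom ψ) ≫ b) : a = b := by
  let m : Spec (CommRingCat.of R) := IsLocalRing.closedPoint R
  have hm : Spec.map (CommRingCat.ofHom ψ) (IsLocalRing.closedPoint B) = m := IsLocalRing.comap_closedPoint ψ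
  have hab : a m = b m := by
    rw [← hm, ← Scheme.Hom.comp_apply, ← Scheme.Hom.comp_apply, h]
  obtain ⟨U, hU, haU, -⟩ := exists_isAffineOpen_mem_and_subset (U := (⊤ : S.Opens)) (x := a m) trivial
  haveI : IsAffine U.toScheme := hU
  have hr : ∀ c : Spec (CommRingCat.of R) ⟶ S, c m ∈ U → Set.range c ⊆ Set.range U.ι := fun c hc => by
    rintro _ ⟨t, rfl⟩
    rw [Scheme.Opens.range_ι]
    exact ((IsLocalRing.specializes_closedPoint t).map c.continuous).mem_open U.2 hc
  let a' := IsOpenImmersion.lift U.ι a (hr a haU)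
  let b' := IsOpenImmersion.lift U.ι b (hr b (hab ▸ haU))
  have h' : Spec.map (CommRingCat.ofHom ψ) ≫ a' = Spec.map (CommRingCat.ofHom ψ) ≫ b' := by
    rw [← cancel_mono U.ι, Category.assoc, Category.assoc, IsOpenImmersion.lift_fac, IsOpenImmersion.lift_fac, h]
  obtain ⟨α, hα⟩ := Spec.map_surjective (a' ≫ U.toScheme.isoSpec.hom)
  obtain ⟨β, hβ⟩ := Spec.map_surjective (b' ≫ U.toScheme.isoSpec.hom)
  have e : α ≫ CommRingCat.ofHom ψ = β ≫ CommRingCat.ofHom ψ := by
    apply Spec.map_injective
    rw [Spec.map_comp, Spec.map_comp, hα, hβ, ← Category.assoc, h', Category.assoc]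
  have e' : α = β := CommRingCat.hom_ext (RingHom.ext fun r => hψ congr(($e).hom r))
  rw [← IsOpenImmersion.lift_fac U.ι a (hr a haU), ← IsOpenImmersion.lift_fac U.ι b (hr b (hab ▸ haU))]
  congr 1
  rw [← cancel_mono U.toScheme.isoSpec.hom, ← hα, ← hβ, e']

/-- A point of a scheme with values in a valuation ring descends to the valuation ring it dominates. -/
theorem exists_descent {R K L : Type u} [CommRing R] [IsDomain R] [IsDiscreteValuationRing R] [Field K]
    [Algebra R K] [IsFractionRing R K] [Field L] [Algebra K L] [Algebra R L] [IsScalarTower R K L]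
    (V : ValuationSubring L) (hdom : ∀ a ∈ IsLocalRing.maximalIdeal R, V.valuation (algebraMap R L a) < 1)
    {P : Scheme.{u}} (x : Spec (CommRingCat.of K) ⟶ P) (l' : Spec (CommRingCat.of V) ⟶ P)
    (h : Spec.map (CommRingCat.ofHom (algebraMap V L)) ≫ l' = Spec.map (CommRingCat.ofHom (algebraMap K L)) ≫ x) :
    ∃ l : Spec (CommRingCat.of R) ⟶ P, Spec.map (CommRingCat.ofHom (algebraMap R K)) ≫ l = x ∧
      ∀ (ψ : R →+* V), (algebraMap V L).comp ψ = algebraMap R L → Spec.map (CommRingCat.ofHom ψ) ≫ l = l' := by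
  let z := l' (IsLocalRing.closedPoint V)
  let p := x (IsLocalRing.closedPoint K)
  have hpz : p ⤳ z := by
    have h1 : x (Spec.map (CommRingCat.ofHom (algebraMap K L)) (IsLocalRing.closedPoint L)) =
        l' (Spec.map (CommRingCat.ofHom (algebraMap V L)) (IsLocalRing.closedPoint L)) := by
      rw [← Scheme.Hom.comp_apply, ← h]
      rfl
    have h2 : Spec.map (CommRingCat.ofHom (algebraMap K L)) (IsLocalRing.closedPoint L) = IsLocalRing.closedPoint K :=
      Subsingleton.elim (α := PrimeSpectrum K) _ _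
    rw [h2] at h1
    exact (specializes_of_eq h1).trans ((IsLocalRing.specializes_closedPoint _).map l'.continuous)
  let χ : P.presheaf.stalk z ⟶ CommRingCat.of V := Scheme.stalkClosedPointTo l'
  let θ : P.presheaf.stalk z ⟶ CommRingCat.of K := P.presheaf.stalkSpecializes hpz ≫ Scheme.stalkClosedPointTo x
  have hθ : Spec.map θ ≫ P.fromSpecStalk z = x := by
    rw [Spec.map_comp, Category.assoc, Scheme.SpecMap_stalkSpecializes_fromSpecStalk,
      Scheme.Spec_stalkClosedPointTo_fromSpecStalk]
  have hχ : Spec.map χ ≫ P.fromSpecStalk z = l' := Scheme.Spec_stalkClosedPointTo_fromSpecStalk l'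
  have key : χ ≫ CommRingCat.ofHom (algebraMap V L) = θ ≫ CommRingCat.ofHom (algebraMap K L) := by
    apply Spec.map_injective
    rw [← cancel_mono (P.fromSpecStalk z), Spec.map_comp, Spec.map_comp, Category.assoc, Category.assoc, hχ, hθ, h]
  have hmem : ∀ s, θ.hom s ∈ (algebraMap R K).range := fun s =>
    mem_range_of_dominates V hdom _ (by
      rw [show algebraMap K L (θ.hom s) = ((χ.hom s : V) : L) from congr(($key).hom s).symm]
      exact (χ.hom s).2)
  let e : R ≃+* (algebraMap R K).range :=
    RingEquiv.ofBijective (algebraMap R K).rangeRestrict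
      ⟨fun a b hab => IsFractionRing.injective R K (congrArg Subtype.val hab), RingHom.rangeRestrict_surjective _⟩
  let χ₀ : P.presheaf.stalk z ⟶ CommRingCat.of R :=
    CommRingCat.ofHom (e.symm.toRingHom.comp (θ.hom.codRestrict _ hmem))
  have hχ₀ : ∀ s, algebraMap R K (χ₀.hom s) = θ.hom s := fun s =>
    congrArg Subtype.val (e.apply_symm_apply ⟨θ.hom s, hmem s⟩)
  refine ⟨Spec.map χ₀ ≫ P.fromSpecStalk z, ?_, fun ψ hψ => ?_⟩
  · rw [← Spec.map_comp_assoc,
      show χ₀ ≫ CommRingCat.ofHom (algebraMap R K) = θ from CommRingCat.hom_ext (RingHom.ext hχ₀), hθ]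
  · rw [← Spec.map_comp_assoc, show χ₀ ≫ CommRingCat.ofHom ψ = χ from CommRingCat.hom_ext (RingHom.ext fun s =>
      Subtype.ext ?_), hχ]
    show algebraMap V L (ψ (χ₀.hom s)) = algebraMap V L (χ.hom s)
    rw [← RingHom.comp_apply, hψ, IsScalarTower.algebraMap_apply R K L, hχ₀]
    exact congr(($key).hom s).symm

variable {X S : Scheme.{u}} {f : X ⟶ S} {P : Over S} {φ : ∀ T : Over S, PicF.Cl (PicF.XT f T) → (T ⟶ P)}
variable (hP : PicRel.IsRelPic f P φ)
include hP

/-- A field valued point is given by a class over a finite extension. -/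
theorem exists_finite_class {K : Type u} [Field K] (t : Spec (CommRingCat.of K) ⟶ S) (g : Over.mk t ⟶ P) :
    ∃ (L : Type u) (_ : Field L) (_ : Algebra K L), Module.Finite K L ∧
      ∃ c : PicF.Cl (PicF.XT f (Over.mk (Spec.map (CommRingCat.ofHom (algebraMap K L)) ≫ t))),
        PicF.IsInvertibleCl c ∧ φ _ c = ext (algebraMap K L) t ≫ g := by
  obtain ⟨ι, U, hU, he⟩ := hP.locallySurjective _ g
  obtain ⟨i, y₀, -⟩ := hU (IsLocalRing.closedPoint K)
  haveI : Etale (U i).hom := (U i).prop
  haveI : Nonempty (U i).left := ⟨y₀⟩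
  haveI : JacobsonSpace ↥((Functor.fromPUnit (Over.mk t).left).obj (U i).right) := inferInstanceAs (JacobsonSpace (PrimeSpectrum K))
  haveI : JacobsonSpace (U i).left :=
    LocallyOfFiniteType.jacobsonSpace (X := (U i).left) (Y := Spec (CommRingCat.of K)) (U i).hom
  obtain ⟨y, -, hy⟩ := (nonempty_inter_closedPoints (Z := (Set.univ : Set (U i).left)) Set.univ_nonempty
    isClosed_univ.isLocallyClosed)
  let m : CommRingCat.of K ⟶ (U i).left.residueField y := Spec.preimage ((U i).left.fromSpecResidueField y ≫ (U i).hom)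
  have hm : Spec.map m = (U i).left.fromSpecResidueField y ≫ (U i).hom := Spec.map_preimage _
  have hfin : m.hom.Finite := by
    have : IsFinite ((U i).left.fromSpecResidueField y ≫ (U i).hom) := by
      rw [mem_closedPoints_iff, isClosed_singleton_iff_isClosedImmersion] at hy
      rw [isFinite_iff_locallyOfFiniteType_of_jacobsonSpace]
      infer_instance
    rw [← IsFinite.SpecMap_iff, hm]
    exact this
  let L := (U i).left.residueField y
  letI : Algebra K L := m.hom.toAlgebra
  let g' : Over.mk (Spec.map (CommRingCat.ofHom (algebraMap K L)) ≫ t) ⟶ PicRel.ovr (Over.mk t) (U i) :=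
    Over.homMk ((U i).left.fromSpecResidueField y) (by
      show (U i).left.fromSpecResidueField y ≫ (U i).hom ≫ t = Spec.map m ≫ t
      rw [hm, Category.assoc])
  have hg : ext (algebraMap K L) t = g' ≫ PicRel.ovrHom (Over.mk t) (U i) :=
    Over.OverMorphism.ext (show Spec.map m = _ from hm)
  obtain ⟨c, hc, hcφ⟩ := he i
  exact ⟨L, inferInstance, inferInstance, hfin, PicF.pullCl (PicF.XTmap f g') c,
    PicClLib.isInvertibleCl_pullCl _ hc, by rw [hP.natural _ _ g' _ hc, hcφ, hg, Category.assoc]⟩

/-- A class over the fraction field of a discrete valuation ring gives a point over the ring. -/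
theorem exists_point_of_class [IsProper f] [Smooth f] {B : Type u} [CommRing B] [IsDomain B]
    [IsDiscreteValuationRing B] {L : Type u} [Field L] [Algebra B L] [IsFractionRing B L]
    (t : Spec (CommRingCat.of B) ⟶ S) {T' : Over S} (r : T' ⟶ Over.mk (Spec.map (CommRingCat.ofHom (algebraMap B L)) ≫ t))
    [IsIso r] {c : PicF.Cl (PicF.XT f T')} (hc : PicF.IsInvertibleCl c) :
    ∃ g : Over.mk t ⟶ P, r ≫ ext (algebraMap B L) t ≫ g = φ T' c := by
  let T : Over S := Over.mk t
  obtain ⟨ϖ, hϖ⟩ := IsDiscreteValuationRing.exists_irreducible B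
  haveI hloc : IsLocalization.Away ϖ L := by
    refine ⟨?_, fun z => ?_, fun {a b} h => ⟨1, by rw [IsFractionRing.injective B L h]⟩⟩
    · rintro ⟨_, k, rfl⟩
      exact IsUnit.mk0 _ ((map_ne_zero_iff _ (IsFractionRing.injective B L)).2 (pow_ne_zero k hϖ.ne_zero))
    · obtain ⟨⟨a, s, hs⟩, hz⟩ := IsLocalization.surj (nonZeroDivisors B) z
      obtain ⟨k, u, rfl⟩ := IsDiscreteValuationRing.eq_unit_mul_pow_irreducible (nonZeroDivisors.ne_zero hs) hϖ
      refine ⟨⟨↑u⁻¹ * a, ϖ ^ k, k, rfl⟩, ?_⟩
      show z * algebraMap B _ (ϖ ^ k) = algebraMap B _ (↑u⁻¹ * a)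
      rw [map_mul, ← hz, mul_left_comm, ← map_mul, Units.inv_mul_cancel_left]
  let j := r ≫ ext (algebraMap B L) t
  haveI : IsIso r.left := inferInstanceAs (IsIso ((Over.forget S).map r))
  haveI : IsOpenImmersion (ext (algebraMap B L) t).left := IsOpenImmersion.of_isLocalization ϖ
  haveI : IsOpenImmersion j.left := inferInstanceAs (IsOpenImmersion (r.left ≫ (ext (algebraMap B L) t).left))
  let g := PicF.XTmap f j
  haveI : IsOpenImmersion g := inferInstance
  haveI : IsNoetherianRing B := inferInstance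
  haveI : IsLocallyNoetherian T.left := inferInstanceAs (IsLocallyNoetherian (Spec (CommRingCat.of B)))
  haveI : IsLocallyNoetherian (PicF.XT f T) := LocallyOfFiniteType.isLocallyNoetherian (pullback.snd f T.hom)
  let e : PicF.XT f T' ≅ g.opensRange.toScheme := g.isoOpensRange
  have he : e.hom ≫ g.opensRange.ι = g := Scheme.Hom.isoOpensRange_hom_ι g
  obtain ⟨N, hN, hNi⟩ := hc
  obtain ⟨M, hM, ⟨v⟩⟩ := InvUfdLib.exists_extension_of_ufd g.opensRange
    ((Scheme.Modules.pullback e.inv).obj N) (PicClLib.isInvertible_pullback e.inv hNi) fun x _ => by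
      haveI := FibIso.isRegularLocalRing_stalk_of_smooth (R := B) (pullback.snd f T.hom) x
      exact (RegUFD.ufd _).2
  have hpull : PicF.pullCl g (PicF.cl M) = c := by
    have h1 : PicF.pullCl g.opensRange.ι (PicF.cl M) = PicF.pullCl e.inv (PicF.cl N) :=
      Quot.sound ⟨((Scheme.Modules.restrictFunctorIsoPullback _).app M).symm ≪≫ v⟩
    conv_lhs => rw [← he]
    rw [← PicClLib.pullCl_comp, h1, PicClLib.pullCl_comp, e.hom_inv_id, PicClLib.pullCl_id, hN]
  refine ⟨φ T (PicF.cl M), ?_⟩
  have h := hP.natural T T' j _ ⟨M, rfl, hM⟩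
  rw [hpull] at h
  exact (Category.assoc _ _ _).symm.trans h.symm

/-- A class over the fraction field, with any presentation of the structure morphism. -/
theorem exists_point_left [IsProper f] [Smooth f] {B : Type u} [CommRing B] [IsDomain B]
    [IsDiscreteValuationRing B] {L : Type u} [Field L] [Algebra B L] [IsFractionRing B L]
    (t : Spec (CommRingCat.of B) ⟶ S) (t' : Spec (CommRingCat.of L) ⟶ S)
    (h : t' = Spec.map (CommRingCat.ofHom (algebraMap B L)) ≫ t)
    {c : PicF.Cl (PicF.XT f (Over.mk t'))} (hc : PicF.IsInvertibleCl c) :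
    ∃ g : Over.mk t ⟶ P, Spec.map (CommRingCat.ofHom (algebraMap B L)) ≫ g.left = (φ _ c).left := by
  subst h
  obtain ⟨g, hg⟩ := exists_point_of_class hP t (𝟙 _) hc
  exact ⟨g, (Category.id_comp _).symm.trans (congrArg (·.left) hg)⟩

omit hP in
/-- Lifts through a closed immersion from the generic point. -/
theorem exists_lift_closed {R : Type u} [CommRing R] [IsDomain R] {K : Type u} [Field K] [Algebra R K]
    [IsFractionRing R K] {Z Q : Scheme.{u}} (i : Z ⟶ Q) [IsClosedImmersion i] (x : Spec (CommRingCat.of K) ⟶ Z)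
    (l : Spec (CommRingCat.of R) ⟶ Q) (h : Spec.map (CommRingCat.ofHom (algebraMap R K)) ≫ l = x ≫ i) :
    ∃ l' : Spec (CommRingCat.of R) ⟶ Z, l' ≫ i = l ∧ Spec.map (CommRingCat.ofHom (algebraMap R K)) ≫ l' = x := by
  let j := Spec.map (CommRingCat.ofHom (algebraMap R K))
  let w := pullback.snd i l
  haveI : IsClosedImmersion w := inferInstance
  haveI : Surjective w := ⟨fun q => by
    have hgen : j (IsLocalRing.closedPoint K) ∈ Set.range w := by
      obtain ⟨v, -, hv⟩ := Scheme.Pullback.exists_preimage_pullback (f := i) (g := l) (x (IsLocalRing.closedPoint K))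
        (j (IsLocalRing.closedPoint K)) (by
          rw [← Scheme.Hom.comp_apply, ← Scheme.Hom.comp_apply, h])
      exact ⟨v, hv⟩
    refine (?_ : j (IsLocalRing.closedPoint K) ⤳ q).mem_closed w.isClosedEmbedding.isClosed_range hgen
    refine (PrimeSpectrum.le_iff_specializes (j (IsLocalRing.closedPoint K) : PrimeSpectrum R) (q : PrimeSpectrum R)).1 ?_
    show (IsLocalRing.maximalIdeal K).comap (algebraMap R K) ≤ _
    rw [IsLocalRing.maximalIdeal_eq_bot, ← RingHom.ker_eq_comap_bot,
      (RingHom.injective_iff_ker_eq_bot _).1 (IsFractionRing.injective R K)]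
    exact bot_le⟩
  haveI : IsIso w := isIso_of_isClosedImmersion_of_surjective w
  have h1 : (inv w ≫ pullback.fst i l) ≫ i = l := by
    rw [Category.assoc, pullback.condition, IsIso.inv_hom_id_assoc]
  exact ⟨_, h1, by rw [← cancel_mono i, Category.assoc, h1, h]⟩

/-- Points over the fraction field of a discrete valuation ring extend. -/
theorem exists_point [IsProper f] [Smooth f] (R : Type u) [CommRing R] [IsDomain R] [IsDiscreteValuationRing R]
    (K : Type u) [Field K] [Algebra R K] [IsFractionRing R K] (y : Spec (CommRingCat.of R) ⟶ S)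
    (g : Over.mk (Spec.map (CommRingCat.ofHom (algebraMap R K)) ≫ y) ⟶ P) :
    ∃ l : Spec (CommRingCat.of R) ⟶ P.left,
      Spec.map (CommRingCat.ofHom (algebraMap R K)) ≫ l = g.left ∧ l ≫ P.hom = y := by
  obtain ⟨L, _, _, hfin, c, hc, hcφ⟩ := exists_finite_class hP _ g
  letI : Algebra R L := ((algebraMap K L).comp (algebraMap R K)).toAlgebra
  haveI : IsScalarTower R K L := IsScalarTower.of_algebraMap_eq fun _ => rfl
  haveI := hfin
  obtain ⟨V, hV, hmem, hdom⟩ := Groth.Agent.S4433.result R (IsDiscreteValuationRing.not_isField R) K L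
    (IntermediateField.fg_of_noetherian _)
  haveI := hV
  let ψ : R →+* V := (algebraMap R L).codRestrict V.toSubring hmem
  have hψ : (algebraMap V L).comp ψ = algebraMap R L := RingHom.ext fun _ => rfl
  haveI : IsLocalHom ψ := ⟨fun a ha => by
    by_contra hn
    have h1 : V.valuation ((ψ a : V) : L) = 1 := (V.valuation_eq_one_iff _).1 ha
    exact (ne_of_lt (hdom a hn)) h1⟩
  have hcomp : CommRingCat.ofHom ψ ≫ CommRingCat.ofHom (algebraMap V L) =
      CommRingCat.ofHom (algebraMap R K) ≫ CommRingCat.ofHom (algebraMap K L) :=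
    CommRingCat.hom_ext (hψ.trans (IsScalarTower.algebraMap_eq R K L))
  obtain ⟨gV, hgV⟩ := exists_point_left hP (Spec.map (CommRingCat.ofHom ψ) ≫ y) _ (by
    rw [← Spec.map_comp_assoc, ← hcomp, Spec.map_comp_assoc]) hc
  have hleft : Spec.map (CommRingCat.ofHom (algebraMap V L)) ≫ gV.left =
      Spec.map (CommRingCat.ofHom (algebraMap K L)) ≫ g.left := hgV.trans (congrArg (·.left) hcφ)
  obtain ⟨l, hl1, hl2⟩ := exists_descent V hdom g.left gV.left hleft
  refine ⟨l, hl1, ext_of_local ψ (fun a b hab => ?_) _ _ ?_⟩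
  · exact IsFractionRing.injective R K ((algebraMap K L).injective (congrArg Subtype.val hab))
  · rw [← Category.assoc, hl2 ψ hψ]
    exact Over.w gV

/-- A finite type closed subscheme is proper. -/
theorem isProper_closed [IsLocallyNoetherian S] [IsProper f] [Smooth f] (Z : Scheme.{u}) (i : Z ⟶ P.left)
    [IsClosedImmersion i] [LocallyOfFiniteType (i ≫ P.hom)] [QuasiCompact (i ≫ P.hom)] : IsProper (i ≫ P.hom) := by
  haveI := isSeparated hP
  have huc : UniversallyClosed (i ≫ P.hom) := by
    refine (Groth.Agent.S9213.result (i ≫ P.hom)).2 fun R _ _ _ x y hxy => ?_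
    obtain ⟨l, hl1, hly⟩ := exists_point hP R (FractionRing R) y
      (Over.homMk (x ≫ i) ((Category.assoc _ _ _).trans hxy))
    obtain ⟨l', hl', hl''⟩ := exists_lift_closed i x l hl1
    exact ⟨l', (Category.assoc _ _ _).symm.trans ((congrArg (· ≫ P.hom) hl').trans hly), hl''⟩
  exact ⟨⟩

end Groth.Agent.PicSep
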