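import Groth.Agent.PicSep.Dvr
import Groth.Agent.GrpSchLib.Shear

/-! Separatedness of a scheme representing the relative Picard functor of a smooth proper morphism. -/

set_option autoImplicit false
set_option linter.style.haveILetI false
set_option backward.isDefEq.respectTransparency false
set_option backward.isDefEq.respectTransparency.types false
set_option maxHeartbeats 1000000

universe u

open CategoryTheory CategoryTheory.Limits MonoidalCategory CartesianMonoidalCategory MonObj AlgebraicGeometry
open scoped CategoryTheory.Obj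

namespace Groth.Agent.PicSep

open Groth.Agent

variable {X S : Scheme.{u}} {f : X ⟶ S} {P : Over S} {φ : ∀ T : Over S, PicF.Cl (PicF.XT f T) → (T ⟶ P)}
variable (hP : PicRel.IsRelPic f P φ)
include hP

/-- A morphism to the base, as a morphism over the base. -/
theorem one_eq_comp {T : Over S} : RelPicGrp.one hP T =
    (Over.homMk T.hom (Category.comp_id _) : T ⟶ Over.mk (𝟙 S)) ≫ RelPicGrp.one hP (Over.mk (𝟙 S)) :=
  (RelPicGrp.comp_one hP _).symm

/-- A field valued point meeting the image of the unit is the unit. -/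
theorem eq_one_of_mem_range {K : Type u} [Field K] (tK : Spec (CommRingCat.of K) ⟶ S) (g : Over.mk tK ⟶ P)
    [IsImmersion (RelPicGrp.one hP (Over.mk (𝟙 S))).left]
    (hg : g.left (IsLocalRing.closedPoint K) ∈ Set.range (RelPicGrp.one hP (Over.mk (𝟙 S))).left) :
    g = RelPicGrp.one hP _ := by
  let u : S ⟶ P.left := (RelPicGrp.one hP (Over.mk (𝟙 S))).left
  let g' : Spec (CommRingCat.of K) ⟶ P.left := g.left
  haveI : IsImmersion u := inferInstanceAs (IsImmersion (RelPicGrp.one hP (Over.mk (𝟙 S))).left)
  have hu : u ≫ P.hom = 𝟙 S := Over.w (RelPicGrp.one hP (Over.mk (𝟙 S)))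
  have hg' : g' ≫ P.hom = tK := Over.w g
  obtain ⟨s, hs⟩ := hg
  obtain ⟨z, -, hz⟩ := Scheme.Pullback.exists_preimage_pullback (f := u) (g := g') s (IsLocalRing.closedPoint K) hs
  let w := pullback.snd u g'
  haveI : Surjective w := ⟨fun x => ⟨z, hz.trans (Subsingleton.elim _ _)⟩⟩
  haveI : IsClosedImmersion w := .of_isPreimmersion w (by rw [w.surjective.range_eq]; exact isClosed_univ)
  haveI : IsIso w := isIso_of_isClosedImmersion_of_surjective w
  let a := inv w ≫ pullback.fst u g'
  have h1 : a ≫ u = g' := by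
    rw [Category.assoc, pullback.condition, IsIso.inv_hom_id_assoc]
  have h2 : a = tK := by
    rw [← hg', ← h1, Category.assoc, hu, Category.comp_id]
  rw [one_eq_comp hP]
  refine Over.OverMorphism.ext ?_
  show g' = tK ≫ u
  exact h1.symm.trans (congrArg (· ≫ u) h2)

variable [IsLocallyNoetherian S] [IsProper f] [Smooth f]

theorem specializingMap_unit [LocallyOfFiniteType P.hom] [IsImmersion (RelPicGrp.one hP (Over.mk (𝟙 S))).left] :
    SpecializingMap (RelPicGrp.one hP (Over.mk (𝟙 S))).left := by
  let u : S ⟶ P.left := (RelPicGrp.one hP (Over.mk (𝟙 S))).left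
  have hu : ∀ s, P.hom (u s) = s := fun s => by
    rw [← Scheme.Hom.comp_apply, show u ≫ P.hom = 𝟙 S from Over.w (RelPicGrp.one hP (Over.mk (𝟙 S)))]
    rfl
  haveI : IsLocallyNoetherian P.left := LocallyOfFiniteType.isLocallyNoetherian P.hom
  intro s₁ p hp
  by_cases hne : p = u s₁
  · exact ⟨s₁, specializes_refl _, hne.symm⟩
  obtain ⟨A, _, _, _, τ, hτc, hτg⟩ := UnivOpen.exists_dvr_lift (Y := P.left) hp hne
  let t := τ ≫ P.hom
  let g : Over.mk t ⟶ P := Over.homMk τ rfl
  have hgen : τ (Spec.map (CommRingCat.ofHom (algebraMap A (FractionRing A)))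
      (IsLocalRing.closedPoint (FractionRing A))) = u s₁ := hτg _ fun h => by
    have h' := congrArg PrimeSpectrum.asIdeal h
    change (IsLocalRing.maximalIdeal (FractionRing A)).comap (algebraMap A (FractionRing A)) =
      IsLocalRing.maximalIdeal A at h'
    rw [IsLocalRing.maximalIdeal_eq_bot, ← RingHom.ker_eq_comap_bot,
      (RingHom.injective_iff_ker_eq_bot _).1 (IsFractionRing.injective A (FractionRing A))] at h'
    exact IsDiscreteValuationRing.not_a_field A h'.symm
  obtain ⟨B, _, _, ψ, hψ, h⟩ := exists_ext_one hP t g (eq_one_of_mem_range hP _ _ ⟨s₁, hgen.symm⟩)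
  rw [one_eq_comp hP] at h
  have h1 : τ (Spec.map (CommRingCat.ofHom ψ) (IsLocalRing.closedPoint B)) =
      u ((Spec.map (CommRingCat.ofHom ψ) ≫ t) (IsLocalRing.closedPoint B)) :=
    congrArg (fun m : _ ⟶ P => m.left (IsLocalRing.closedPoint B)) h
  have hc : Spec.map (CommRingCat.ofHom ψ) (IsLocalRing.closedPoint B) = IsLocalRing.closedPoint A :=
    IsLocalRing.comap_closedPoint ψ
  rw [hc, hτc] at h1
  refine ⟨P.hom p, ?_, ?_⟩
  · have := hp.map P.hom.continuous
    exact (specializes_of_eq (hu s₁).symm).trans this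
  · have h2 : P.hom p = (Spec.map (CommRingCat.ofHom ψ) ≫ t) (IsLocalRing.closedPoint B) := by
      exact (congrArg P.hom h1).trans (hu _)
    exact (congrArg u h2).trans h1.symm

/-- A scheme representing the relative Picard functor of a smooth proper morphism is separated. -/
theorem isSeparated : IsSeparated P.hom := by
  letI := RelPicGrp.commGrpObj hP
  haveI : LocallyOfFiniteType P.hom := RelPicLft.locallyOfFiniteType hP
  haveI : IsLocallyNoetherian P.left := LocallyOfFiniteType.isLocallyNoetherian P.hom
  let u : S ⟶ P.left := (RelPicGrp.one hP (Over.mk (𝟙 S))).left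
  have hu : u ≫ P.hom = 𝟙 S := Over.w (RelPicGrp.one hP (Over.mk (𝟙 S)))
  haveI : QuasiSeparated P.hom := inferInstance
  haveI : IsImmersion (u ≫ P.hom) := by rw [hu]; infer_instance
  haveI : IsImmersion u := IsImmersion.of_comp u P.hom
  haveI : QuasiCompact (u ≫ P.hom) := by rw [hu]; infer_instance
  haveI : QuasiCompact u := QuasiCompact.of_comp u P.hom
  refine ⟨(GrpSchLib.diagonal_iff_unit (G := P) @IsClosedImmersion).2 ?_⟩
  have hη : (η[P]).left = u := congrArg (·.left) (show η[P] = RelPicGrp.one hP (𝟙_ (Over S)) from rfl)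
  rw [hη]
  exact .of_isPreimmersion u ((isClosedMap_iff_specializingMap u).2 (specializingMap_unit hP)).isClosed_range

end Groth.Agent.PicSep
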